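import Cfsg.Agent.Lib.InvChar.SU3Sylow
import Cfsg.Agent.Lib.Forms.UnitaryFin
import Mathlib

/-!
Generation of `SU_3(q)` by two conjugate regular unipotent elements: a word in `u` and `v` fixing the
point of `u` supplies enough torus to span the unipotent radical.
-/

set_option autoImplicit false
set_option linter.unusedSectionVars false
set_option linter.style.haveILetI false

namespace Cfsg.Agent.SUThreeGen

open Cfsg.Agent Cfsg.Agent.AutPSU Matrix

variable {F : Type*} [Field F] [Fintype F] {q : ℕ} [hQ : QField F q]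

local notation "σ" => qb (F := F) q
local notation "H" => Cfsg.hermForm 3 F q
local notation "V" => Fin 3 → F

/-- An adapted frame `e, w, f`. -/
structure Frame (F : Type*) [Field F] (q : ℕ) [QField F q] where
  e : Fin 3 → F
  f : Fin 3 → F
  w : Fin 3 → F
  ee : Cfsg.hermForm 3 F q e e = 0
  ff : Cfsg.hermForm 3 F q f f = 0
  ef : Cfsg.hermForm 3 F q e f = 1
  fe : Cfsg.hermForm 3 F q f e = 1
  we : Cfsg.hermForm 3 F q w e = 0
  ew : Cfsg.hermForm 3 F q e w = 0
  wf : Cfsg.hermForm 3 F q w f = 0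
  fw : Cfsg.hermForm 3 F q f w = 0
  ww : Cfsg.hermForm 3 F q w w = 1

theorem Frame.exists_frame : Nonempty (Frame F q) := by
  obtain ⟨e, f, w, h1, h2, h3, h4, h5, h6, h7, h8, h9⟩ := InvChar.exists_su3_frame (F := F) (q := q)
  exact ⟨⟨e, f, w, h1, h2, h3, h4, h5, h6, h7, h8, h9⟩⟩

variable (S : Frame F q)

/-- The vector with given coordinates. -/
def vec (x y z : F) : V := x • S.e + y • S.w + z • S.f

theorem H_vec_e (x y z : F) : H (vec S x y z) S.e = z := by simp [vec, S.ee, S.we, S.fe]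
theorem H_vec_w (x y z : F) : H (vec S x y z) S.w = y := by simp [vec, S.ew, S.ww, S.fw]
theorem H_vec_f (x y z : F) : H (vec S x y z) S.f = x := by simp [vec, S.ef, S.wf, S.ff]

theorem eq_vec (v : V) : v = vec S (H v S.f) (H v S.w) (H v S.e) := by
  classical
  have hli : LinearIndependent F ![S.e, S.w, S.f] := by
    rw [Fintype.linearIndependent_iff]
    intro g hg i
    have h0 : vec S (g 0) (g 1) (g 2) = 0 := by rw [← hg]; simp [vec, Fin.sum_univ_three]
    fin_cases i
    · have := H_vec_f S (g 0) (g 1) (g 2); rw [h0, H_zero_left] at this; exact this.symm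
    · have := H_vec_w S (g 0) (g 1) (g 2); rw [h0, H_zero_left] at this; exact this.symm
    · have := H_vec_e S (g 0) (g 1) (g 2); rw [h0, H_zero_left] at this; exact this.symm
  have hsp := hli.span_eq_top_of_card_eq_finrank (by simp)
  obtain ⟨c, hc⟩ := (Submodule.mem_span_range_iff_exists_fun F).1
    (show v ∈ Submodule.span F (Set.range ![S.e, S.w, S.f]) by rw [hsp]; trivial)
  have hv : v = vec S (c 0) (c 1) (c 2) := by rw [← hc]; simp [vec, Fin.sum_univ_three]
  conv_rhs => rw [hv, H_vec_e, H_vec_w, H_vec_f]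
  exact hv

theorem vec_ext {x y z x' y' z' : F} (h1 : x = x') (h2 : y = y') (h3 : z = z') :
    vec S x y z = vec S x' y' z' := by subst h1 h2 h3; rfl

theorem isQ_u {c d : F} (h : d + σ d + c * σ c = 0) : IsQ q S.e (c • S.w) d :=
  ⟨S.ee, by simp [S.we], by simp [S.ww]; linear_combination h⟩

theorem isQ_v {β : F} (h : β + σ β + 1 = 0) : IsQ q S.f S.w β :=
  ⟨S.ff, S.wf, by rw [S.ww]; exact h⟩

/-- The upper regular unipotent element. -/
noncomputable def uE (c d : F) (h : d + σ d + c * σ c = 0) : Cfsg.SU 3 F q :=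
  qE S.e (c • S.w) d (isQ_u S h)

/-- The lower regular unipotent element. -/
noncomputable def vE (β : F) (h : β + σ β + 1 = 0) : Cfsg.SU 3 F q := qE S.f S.w β (isQ_v S h)

theorem uE_vec {c d : F} (h : d + σ d + c * σ c = 0) (x y z : F) :
    app (uE S c d h) (vec S x y z) = vec S (x - σ c * y + d * z) (y + c * z) z := by
  rw [uE, qE_apply, H_vec_e, H_smul_right, H_vec_w]
  simp only [vec]
  module

theorem vE_vec {β : F} (h : β + σ β + 1 = 0) (x y z : F) :
    app (vE S β h) (vec S x y z) = vec S x (y + x) (z + β * x - y) := by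
  rw [vE, qE_apply, H_vec_f, H_vec_w]
  simp only [vec]
  module

theorem app_pow_succ (s : Cfsg.SU 3 F q) (n : ℕ) (v : V) : app (s ^ (n + 1)) v = app s (app (s ^ n) v) := by
  rw [pow_succ', app_mul]

/-- A linear isometry of determinant one gives an element of `SU`. -/
theorem exists_su (L : V →ₗ[F] V) (hdet : LinearMap.det L = 1) (hp : ∀ a b, H (L a) (L b) = H a b) :
    ∃ g : Cfsg.SU 3 F q, ∀ a, app g a = L a := by
  refine ⟨⟨⟨LinearMap.toMatrix' L, by rw [LinearMap.det_toMatrix', hdet]⟩, fun a b => ?_⟩, fun a => ?_⟩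
  · show H (LinearMap.toMatrix' L *ᵥ a) (LinearMap.toMatrix' L *ᵥ b) = _
    rw [LinearMap.toMatrix'_mulVec, LinearMap.toMatrix'_mulVec, hp]
  · exact LinearMap.toMatrix'_mulVec _ _

/-- The monomial element interchanging the two isotropic points. -/
theorem exists_swap {μ : F} (hμ : μ ≠ 0) : ∃ g : Cfsg.SU 3 F q, ∀ x y z : F,
    app g (vec S x y z) = vec S ((σ μ)⁻¹ * z) (-(σ μ / μ) * y) (μ * x) := by
  classical
  have hσ : σ μ ≠ 0 := fun h => hμ ((map_eq_zero _).1 h)
  let L : V →ₗ[F] V :=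
    ((σ μ)⁻¹ • Hl (q := q) S.e).smulRight S.e + ((-(σ μ / μ)) • Hl (q := q) S.w).smulRight S.w +
      (μ • Hl (q := q) S.f).smulRight S.f
  have hL : ∀ x y z, L (vec S x y z) = vec S ((σ μ)⁻¹ * z) (-(σ μ / μ) * y) (μ * x) := fun x y z => by
    simp only [L, LinearMap.add_apply, LinearMap.smulRight_apply, LinearMap.smul_apply, Hl_apply,
      H_vec_e, H_vec_w, H_vec_f, smul_eq_mul]
    rfl
  have hp : ∀ a b, H (L a) (L b) = H a b := by
    intro a b
    rw [eq_vec S a, eq_vec S b, hL, hL]
    generalize H a S.f = x; generalize H a S.w = y; generalize H a S.e = z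
    generalize H b S.f = x'; generalize H b S.w = y'; generalize H b S.e = z'
    simp only [vec, H_add_left, H_add_right, H_smul_left, H_smul_right, S.ee, S.ff, S.ef, S.fe, S.we,
      S.ew, S.wf, S.fw, S.ww, map_mul, map_neg, map_div₀, map_inv₀, qb_qb]
    field_simp
    ring
  have hli : LinearIndependent F ![S.e, S.w, S.f] := by
    rw [Fintype.linearIndependent_iff]
    intro g hg i
    have h0 : vec S (g 0) (g 1) (g 2) = 0 := by rw [← hg]; simp [vec, Fin.sum_univ_three]
    fin_cases i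
    · have := H_vec_f S (g 0) (g 1) (g 2); rw [h0, H_zero_left] at this; exact this.symm
    · have := H_vec_w S (g 0) (g 1) (g 2); rw [h0, H_zero_left] at this; exact this.symm
    · have := H_vec_e S (g 0) (g 1) (g 2); rw [h0, H_zero_left] at this; exact this.symm
  let B := basisOfLinearIndependentOfCardEqFinrank hli (by simp)
  have hB : ∀ i, B i = ![S.e, S.w, S.f] i := fun i => by simp [B]
  have hdet : LinearMap.det L = 1 := by
    rw [← LinearMap.det_toMatrix B]
    have hm : LinearMap.toMatrix B B L = !![0, 0, (σ μ)⁻¹; 0, -(σ μ / μ), 0; μ, 0, 0] := by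
      have h0 : L (B 0) = μ • B 2 := by
        have := hL 1 0 0
        simpa [vec, hB] using this
      have h1 : L (B 1) = (-(σ μ / μ)) • B 1 := by
        have := hL 0 1 0
        simpa [vec, hB] using this
      have h2 : L (B 2) = (σ μ)⁻¹ • B 0 := by
        have := hL 0 0 1
        simpa [vec, hB] using this
      ext i j
      rw [LinearMap.toMatrix_apply]
      fin_cases i <;> fin_cases j <;> simp [h0, h1, h2, Finsupp.single_apply]
    rw [hm, Matrix.det_fin_three]
    simp
    field_simp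
  obtain ⟨g, hg⟩ := exists_su L hdet hp
  exact ⟨g, fun x y z => by rw [hg, hL]⟩

/-- Shifting the parameter `a` along the point itself. -/
theorem qE_shift {x a : V} {t s : F} (h : IsQ q x (a + s • x) t) (h' : IsQ q x a (t + (s - σ s))) :
    qE x (a + s • x) t h = qE x a (t + (s - σ s)) h' := by
  apply su_ext
  intro v
  show app _ v = app _ v
  rw [qE_apply, qE_apply, H_add_right, H_smul_right]
  module

/-- Scaling the point. -/
theorem qE_smul {x a : V} {t k : F} (h : IsQ q (k • x) a t) (h' : IsQ q x (σ k • a) (k * σ k * t)) :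
    qE (k • x) a t h = qE x (σ k • a) (k * σ k * t) h' := by
  apply su_ext
  intro v
  show app _ v = app _ v
  rw [qE_apply, qE_apply]
  simp only [H_smul_right, qb_qb]
  module

theorem conj_u {c d β μ : F} (hd : d + σ d + c * σ c = 0) (hβ : β + σ β + 1 = 0) (hμ : μ ≠ 0)
    (hc : c * σ μ ^ 2 = -μ) : ∃ g, g * uE S c d hd * g⁻¹ = vE S β hβ := by
  obtain ⟨g0, hg0⟩ := exists_swap S hμ
  have he : app g0 S.e = μ • S.f := by
    have := hg0 1 0 0
    simpa [vec] using this
  have hw : app g0 (c • S.w) = (c * -(σ μ / μ)) • S.w := by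
    have := hg0 0 c 0
    simpa [vec, smul_smul, mul_comm] using this
  have hc1 : σ μ * (c * -(σ μ / μ)) = 1 := by
    field_simp
    linear_combination -hc
  have h1 : IsQ q S.f S.w (μ * σ μ * d) := by
    refine ⟨S.ff, S.wf, ?_⟩
    have hn := congrArg σ hc
    simp only [map_mul, map_neg, map_pow, qb_qb] at hn
    rw [S.ww, map_mul, map_mul, qb_qb]
    have hμσ : σ μ ≠ 0 := fun h => hμ ((map_eq_zero _).1 h)
    apply mul_left_cancel₀ (mul_ne_zero hμ hμσ)
    linear_combination (μ * σ μ) * (μ * σ μ) * hd - (μ ^ 2 * σ c) * hc + μ * hn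
  have e1 : g0 * uE S c d hd * g0⁻¹ = qE S.f S.w (μ * σ μ * d) h1 := by
    rw [uE, qE_conj]
    have hq : IsQ q (μ • S.f) ((c * -(σ μ / μ)) • S.w) d := by
      rw [← he, ← hw]; exact (isQ_u S hd).app g0
    rw [show qE (app g0 S.e) (app g0 (c • S.w)) d ((isQ_u S hd).app g0) = qE (μ • S.f) _ d hq by
      apply su_ext; intro v; show app _ v = app _ v; rw [qE_apply, qE_apply, he, hw]]
    have hq' : IsQ q S.f (σ μ • (c * -(σ μ / μ)) • S.w) (μ * σ μ * d) := by
      rwa [smul_smul, hc1, one_smul]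
    rw [qE_smul hq hq']
    exact qE_congr (by rw [smul_smul, hc1, one_smul]) rfl
  -- adjust the central part
  set δ := β - μ * σ μ * d with hδ
  have hδs : δ + σ δ = 0 := by
    have := h1.2.2
    rw [S.ww] at this
    rw [hδ, map_sub]
    linear_combination hβ - this
  obtain ⟨t, ht⟩ := exists_trace (F := F) (q := q) (c := (1 : F)) (map_one _)
  set r := δ * t with hr
  have hr' : r - σ r = δ := by
    rw [hr, map_mul]
    linear_combination δ * ht - σ t * hδs
  obtain ⟨τ, hτ⟩ := exists_trace (F := F) (q := q) (c := -(r * σ r))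
    (by rw [map_neg, map_mul, qb_qb, mul_comm])
  have ha : IsQ q S.f (r • S.w) τ := ⟨S.ff, by simp [S.wf], by simp [S.ww]; linear_combination hτ⟩
  refine ⟨qE S.f (r • S.w) τ ha * g0, ?_⟩
  rw [show qE S.f (r • S.w) τ ha * g0 * uE S c d hd * (qE S.f (r • S.w) τ ha * g0)⁻¹ =
      qE S.f (r • S.w) τ ha * (g0 * uE S c d hd * g0⁻¹) * (qE S.f (r • S.w) τ ha)⁻¹ by group,
    e1, mul_inv_eq_iff_eq_mul, vE, qE_mul, qE_mul]
  refine qE_congr (add_comm _ _) ?_
  simp [S.ww]
  linear_combination hr' + hδ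

/-- A word in `u` and `v` fixing the point of `u` with a generating torus part yields everything. -/
theorem closure_eq_top (hq2 : q ≠ 2) (hF : Fintype.card F = q ^ 2) {c d β : F}
    (hd : d + σ d + c * σ c = 0) (hβ : β + σ β + 1 = 0) (hc : c ≠ 0) {x : Cfsg.SU 3 F q}
    (hx : x ∈ Subgroup.closure ({uE S c d hd, vE S β hβ} : Set (Cfsg.SU 3 F q)))
    {k : F} (hk : k ≠ 0) (hxe : app x S.e = k • S.e) {ρ s : F} (hxw : app x S.w = vec S s ρ 0)
    (hgen : Subring.closure ({σ k * ρ} : Set F) = ⊤) :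
    Subgroup.closure ({uE S c d hd, vE S β hβ} : Set (Cfsg.SU 3 F q)) = ⊤ := by
  classical
  set G := Subgroup.closure ({uE S c d hd, vE S β hβ} : Set (Cfsg.SU 3 F q))
  have hu : uE S c d hd ∈ G := Subgroup.subset_closure (Or.inl rfl)
  have hv : vE S β hβ ∈ G := Subgroup.subset_closure (Or.inr rfl)
  let P : AddSubgroup F :=
    { carrier := {α | ∃ (t : F) (h : IsQ q S.e (α • S.w) t), qE S.e (α • S.w) t h ∈ G}
      zero_mem' := ⟨0, by rw [zero_smul]; exact isQ_zero S.ee, by
        convert G.one_mem using 1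
        rw [← qE_one (q := q) (n := 3) S.ee]
        exact qE_congr (zero_smul _ _) rfl⟩
      add_mem' := by
        rintro α α' ⟨t, h, hG⟩ ⟨t', h', hG'⟩
        refine ⟨_, by rw [add_smul]; exact h.add h', ?_⟩
        convert G.mul_mem hG hG' using 1
        rw [qE_mul]
        exact qE_congr (add_smul _ _ _) rfl
      neg_mem' := by
        rintro α ⟨t, h, hG⟩
        have h' : IsQ q S.e ((-α) • S.w) (σ t) := by
          refine ⟨S.ee, by simp [S.we], ?_⟩
          have := h.2.2
          simp [S.ww] at this ⊢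
          linear_combination this
        refine ⟨_, h', ?_⟩
        convert G.inv_mem hG using 1
        rw [eq_inv_iff_mul_eq_one, qE_mul, ← qE_one (q := q) (n := 3) S.ee]
        refine qE_congr (by simp) ?_
        have := h.2.2
        simp [S.ww] at this ⊢
        linear_combination this }
  have hcP : c ∈ P := ⟨d, isQ_u S hd, hu⟩
  have hlam : ∀ α ∈ P, σ k * ρ * α ∈ P := by
    rintro α ⟨t, h, hG⟩
    have hxa : app x (α • S.w) = (α * ρ) • S.w + (α * s) • S.e := by
      rw [app_smul, hxw, vec]; module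
    have hq : IsQ q (k • S.e) ((α * ρ) • S.w + (α * s) • S.e) t := by
      rw [← hxe, ← hxa]; exact h.app x
    have hq1 : IsQ q S.e (σ k • ((α * ρ) • S.w + (α * s) • S.e)) (k * σ k * t) := by
      refine ⟨S.ee, ?_, ?_⟩
      · simp [S.we, S.ee]
      · have := hq.2.2
        simp only [H_smul_left, H_smul_right, qb_qb, map_mul] at this ⊢
        linear_combination (k * σ k) * this
    have e : σ k • ((α * ρ) • S.w + (α * s) • S.e) = (σ k * ρ * α) • S.w + (σ k * (α * s)) • S.e := by
      module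
    have hq2' : IsQ q S.e ((σ k * ρ * α) • S.w + (σ k * (α * s)) • S.e) (k * σ k * t) := e ▸ hq1
    have hq3 : IsQ q S.e ((σ k * ρ * α) • S.w)
        (k * σ k * t + (σ k * (α * s) - σ (σ k * (α * s)))) := by
      refine ⟨S.ee, by simp [S.we], ?_⟩
      have := hq2'.2.2
      simp [S.ww, S.we, S.ew, S.ee] at this ⊢
      linear_combination this
    refine ⟨_, hq3, ?_⟩
    rw [← qE_shift hq2' hq3, ← qE_congr (h := hq1) e rfl, ← qE_smul hq hq1]
    convert G.mul_mem (G.mul_mem hx hG) (G.inv_mem hx) using 1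
    rw [qE_conj]
    apply su_ext
    intro v
    show app _ v = app _ v
    rw [qE_apply, qE_apply, hxe, hxa]
  have hall : ∀ α : F, α ∈ P := by
    let R : Subring F :=
      { carrier := {r | ∀ α ∈ P, r * α ∈ P}
        zero_mem' := fun α _ => by rw [zero_mul]; exact P.zero_mem
        one_mem' := fun α h => by rwa [one_mul]
        add_mem' := fun {r r'} h h' α ha => by rw [add_mul]; exact P.add_mem (h α ha) (h' α ha)
        neg_mem' := fun {r} h α ha => by rw [neg_mul]; exact P.neg_mem (h α ha)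
        mul_mem' := fun {r r'} h h' α ha => by rw [mul_assoc]; exact h _ (h' α ha) }
    have hR : R = ⊤ := top_le_iff.1 (hgen ▸ Subring.closure_le.2 (Set.singleton_subset_iff.2 hlam))
    intro α
    have := (show α * c⁻¹ ∈ R by rw [hR]; trivial) c hcP
    rwa [mul_assoc, inv_mul_cancel₀ hc, mul_one] at this
  -- the central part
  have hcent : ∀ (t : F) (h : IsT q S.e t), tr S.e t h ∈ G := by
    intro t h
    obtain ⟨θ, hθ⟩ := exists_trace (F := F) (q := q) (c := (1 : F)) (map_one _)
    set r := t * θ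
    obtain ⟨T1, h1, hA⟩ := hall r
    obtain ⟨T2, h2, hB⟩ := hall 1
    convert G.mul_mem (G.mul_mem hA hB) (G.inv_mem (G.mul_mem hB hA)) using 1
    rw [eq_mul_inv_iff_mul_eq, qE_mul, qE_mul, tr, qE_mul]
    refine qE_congr (by simp [add_comm]) ?_
    have hts := h.2
    simp [S.ww, r]
    linear_combination σ θ * hts - t * hθ
  have hU : ∀ (α t : F) (h : IsQ q S.e (α • S.w) t), qE S.e (α • S.w) t h ∈ G := by
    intro α t h
    obtain ⟨t', h', hG⟩ := hall α
    have hT : IsT q S.e (t - t') := by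
      refine ⟨S.ee, ?_⟩
      have a1 := h.2.2
      have a2 := h'.2.2
      rw [map_sub]
      linear_combination a1 - a2
    convert G.mul_mem (hcent _ hT) hG using 1
    rw [tr, qE_mul]
    exact qE_congr (by simp) (by simp)
  -- transitivity on isotropic points
  have hf : ∀ y : V, H y y = 0 → H y S.e ≠ 0 → ∃ g ∈ G, y = H y S.e • app g S.f := by
    intro y hyy hye
    set z := (H y S.e)⁻¹ • y
    have hz : H z z = 0 := by simp [z, hyy]
    have hze : H z S.e = 1 := by simp [z, inv_mul_cancel₀ hye]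
    have hzv := eq_vec S z
    rw [hze] at hzv
    have hq : IsQ q S.e (H z S.w • S.w) (H z S.f) := by
      refine ⟨S.ee, by simp [S.we], ?_⟩
      rw [hzv] at hz
      generalize H z S.w = a at hz ⊢
      generalize H z S.f = b at hz ⊢
      simp [vec, S.ee, S.ff, S.ef, S.fe, S.we, S.ew, S.wf, S.fw, S.ww] at hz ⊢
      linear_combination hz
    refine ⟨_, hU _ _ hq, ?_⟩
    have : app (qE S.e (H z S.w • S.w) (H z S.f) hq) S.f = z := by
      conv_rhs => rw [hzv]
      rw [qE_apply]
      simp [vec, S.fe, S.fw]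
      module
    rw [this]
    simp [z, smul_smul, mul_inv_cancel₀ hye]
  have hfe : ∃ (g : Cfsg.SU 3 F q) (a : F), g ∈ G ∧ a ≠ 0 ∧ S.f = a • app g S.e := by
    have hve : H (app (vE S β hβ) S.e) S.e = β := by
      have h := vE_vec S hβ 1 0 0
      have e : S.e = vec S 1 0 0 := by simp [vec]
      rw [← e] at h
      rw [h, H_vec_e]; ring
    have hβ0 : β ≠ 0 := fun h => by simp [h] at hβ
    obtain ⟨g, hg, he⟩ := hf (app (vE S β hβ) S.e) (by rw [app_H, S.ee]) (by rwa [hve])
    rw [hve] at he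
    refine ⟨g⁻¹ * vE S β hβ, β⁻¹, G.mul_mem (G.inv_mem hg) hv, inv_ne_zero hβ0, ?_⟩
    rw [app_mul, he, app_smul, app_inv, smul_smul, inv_mul_cancel₀ hβ0, one_smul]
  have htrans : ∀ y : V, H y y = 0 → ∃ (g : Cfsg.SU 3 F q) (a : F), g ∈ G ∧ y = a • app g S.e := by
    intro y hyy
    by_cases hye : H y S.e = 0
    · refine ⟨1, H y S.f, G.one_mem, ?_⟩
      have hyv := eq_vec S y
      rw [hye] at hyv
      have h2 : H y S.w * σ (H y S.w) = 0 := by
        rw [hyv] at hyy
        generalize H y S.w = a at hyy ⊢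
        generalize H y S.f = b at hyy ⊢
        simpa [vec, S.ee, S.we, S.ew, S.ww] using hyy
      have h3 : H y S.w = 0 := by
        rcases mul_eq_zero.1 h2 with h | h
        · exact h
        · exact (map_eq_zero _).1 h
      rw [h3] at hyv
      rw [app_one]
      conv_lhs => rw [hyv]
      simp [vec]
    · obtain ⟨g, hg, he⟩ := hf y hyy hye
      obtain ⟨g', a, hg', -, hfe⟩ := hfe
      refine ⟨g * g', H y S.e * a, G.mul_mem hg hg', ?_⟩
      conv_lhs => rw [he, hfe, app_smul, smul_smul]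
      rw [app_mul]
  rw [eq_top_iff, ← FormsLib.closure_unitaryTransvection hF 3 (fun h => hq2 h.2), Subgroup.closure_le]
  rintro A ⟨y, a, hy, hA⟩
  have happ : ∀ z : V, app A z = z + (a * H z y) • y := by
    intro z
    show ((A : Matrix.SpecialLinearGroup (Fin 3) F) : Matrix (Fin 3) (Fin 3) F) *ᵥ z = _
    rw [hA, Cfsg.unitaryTransvection, Matrix.add_mulVec, Matrix.one_mulVec, Matrix.smul_mulVec,
      Matrix.vecMulVec_mulVec]
    funext i
    simp only [Pi.add_apply, Pi.smul_apply, op_smul_eq_mul, smul_eq_mul, H_def, dotProduct]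
    rw [Finset.sum_congr rfl fun j _ => mul_comm (y j ^ q) (z j)]
    ring
  by_cases hy0 : y = 0
  · have : A = 1 := su_ext fun z => by
      show app A z = app (1 : Cfsg.SU 3 F q) z
      rw [happ, app_one, hy0]; simp
    rw [this]; exact G.one_mem
  have ha : a + σ a = 0 := by
    obtain ⟨z, hz⟩ := exists_H_eq_one (q := q) hy0
    have hyz : H y z = 1 := by rw [← H_flip z y, hz, map_one]
    have h1 := app_H A z z
    rw [happ, hz] at h1
    simp [hy, hz, hyz] at h1
    linear_combination h1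
  obtain ⟨g, b, hg, hyg⟩ := htrans y hy
  have hT : IsT q S.e (b * σ b * a) := ⟨S.ee, by
    simp only [map_mul, qb_qb]
    linear_combination (b * σ b) * ha⟩
  have : A = g * tr S.e (b * σ b * a) hT * g⁻¹ := su_ext fun z => by
    show app A z = app _ z
    rw [happ, tr_conj, tr_apply, hyg, H_smul_right, smul_smul]
    congr 2
    ring
  rw [this]
  exact G.mul_mem (G.mul_mem hg (hcent _ hT)) (G.inv_mem hg)

/-- Regularity of the upper element. -/
theorem regular_u {c d : F} (hd : d + σ d + c * σ c = 0) (hc : c ≠ 0) :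
    IsNilpotent ((((uE S c d hd : Cfsg.SU 3 F q) : Matrix.SpecialLinearGroup (Fin 3) F) : Matrix (Fin 3) (Fin 3) F) - 1) ∧
      ((((uE S c d hd : Cfsg.SU 3 F q) : Matrix.SpecialLinearGroup (Fin 3) F) : Matrix (Fin 3) (Fin 3) F) - 1) ^ (3 - 1) ≠ 0 := by
  set M := (((uE S c d hd : Cfsg.SU 3 F q) : Matrix.SpecialLinearGroup (Fin 3) F) : Matrix (Fin 3) (Fin 3) F) - 1
  have hM : ∀ x y z, M *ᵥ vec S x y z = vec S (-σ c * y + d * z) (c * z) 0 := fun x y z => by
    show (_ - 1) *ᵥ vec S x y z = _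
    rw [Matrix.sub_mulVec, Matrix.one_mulVec]
    show app (uE S c d hd) (vec S x y z) - vec S x y z = _
    rw [uE_vec]
    simp only [vec]
    module
  constructor
  · refine ⟨3, Matrix.ext_iff_mulVec.2 fun v => ?_⟩
    rw [eq_vec S v, Matrix.zero_mulVec, pow_succ, pow_two, ← Matrix.mulVec_mulVec, ← Matrix.mulVec_mulVec,
      hM, hM, hM]
    simp [vec]
  · intro h0
    have h1 := congrArg (fun N => H (N *ᵥ vec S 0 0 1) S.f) h0
    simp only [show 3 - 1 = 2 from rfl, pow_two, ← Matrix.mulVec_mulVec, hM, H_vec_f, Matrix.zero_mulVec,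
      H_zero_left] at h1
    simp [hc] at h1

theorem main (hq2 : q ≠ 2) (hF : Fintype.card F = q ^ 2) {c d β μ k ρ s : F}
    (hd : d + σ d + c * σ c = 0) (hβ : β + σ β + 1 = 0) (hc : c ≠ 0) (hμ : μ ≠ 0)
    (hcμ : c * σ μ ^ 2 = -μ) (hk : k ≠ 0) (x : Cfsg.SU 3 F q)
    (hx : x ∈ Subgroup.closure ({uE S c d hd, vE S β hβ} : Set (Cfsg.SU 3 F q)))
    (hxe : app x S.e = k • S.e) (hxw : app x S.w = vec S s ρ 0)
    (hgen : Subring.closure ({σ k * ρ} : Set F) = ⊤) :
    ∃ u g : Cfsg.SU 3 F q,
      (IsNilpotent (((u : Matrix.SpecialLinearGroup (Fin 3) F) : Matrix (Fin 3) (Fin 3) F) - 1) ∧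
        (((u : Matrix.SpecialLinearGroup (Fin 3) F) : Matrix (Fin 3) (Fin 3) F) - 1) ^ (3 - 1) ≠ 0) ∧
      Subgroup.closure ({u, g * u * g⁻¹} : Set (Cfsg.SU 3 F q)) = ⊤ := by
  obtain ⟨g, hg⟩ := conj_u S hd hβ hμ hcμ
  exact ⟨uE S c d hd, g, regular_u S hd hc, by
    rw [hg]; exact closure_eq_top S hq2 hF hd hβ hc hx hk hxe hxw hgen⟩

end Cfsg.Agent.SUThreeGen
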