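import Cfsg.Agent.Lib.SUThreeGen.Main
import Mathlib

/-!
Parameters for the generation of `SU_3(q)` by two regular unipotent elements.
-/

set_option autoImplicit false
set_option linter.unusedSectionVars false
set_option linter.style.haveILetI false

namespace Cfsg.Agent.SUThreeGen

open Cfsg.Agent Cfsg.Agent.AutPSU Polynomial

variable {F : Type*} [Field F] [Fintype F] {q : ℕ} [hQ : QField F q]

local notation "σ" => qb (F := F) q

/-- The size of a subring of `F` and the elements in it. -/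
theorem subring_card (hF : Fintype.card F = q ^ 2) (R : Subring F) :
    ∃ s j : ℕ, q ^ 2 = s ^ j ∧ 2 ≤ s ∧ 1 ≤ j ∧ (j = 1 → R = ⊤) ∧ ∀ x ∈ R, x ≠ 0 → x ^ (s - 1) = 1 := by
  classical
  haveI : Fintype R := Fintype.ofFinite R
  letI : Field R := Fintype.fieldOfDomain R
  refine ⟨Fintype.card R, Module.finrank R F, ?_, Fintype.one_lt_card, Module.finrank_pos, fun h => ?_,
    fun x hx hx0 => ?_⟩
  · rw [← hF, ← Module.card_eq_pow_finrank (K := R) (V := F)]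
  · refine SetLike.coe_injective (Set.eq_univ_of_forall fun x => ?_)
    have hc := Module.card_eq_pow_finrank (K := R) (V := F)
    rw [h, pow_one] at hc
    obtain ⟨r, hr⟩ := ((Fintype.bijective_iff_injective_and_card ((↑) : R → F)).2
      ⟨Subtype.val_injective, hc.symm⟩).2 x
    exact hr ▸ r.2
  · have h := FiniteField.pow_card_sub_one_eq_one (⟨x, hx⟩ : R) (fun e => hx0 (congrArg Subtype.val e))
    exact congrArg Subtype.val h

/-- The cube of a generator of the norm one elements generates the field. -/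
theorem closure_cube_eq_top (hF : Fintype.card F = q ^ 2) (h2 : q ≠ 2) (h5 : q ≠ 5) (h8 : q ≠ 8)
    {ζ : F} (hζ : orderOf ζ = q + 1) : Subring.closure ({ζ ^ 3} : Set F) = ⊤ := by
  set R := Subring.closure ({ζ ^ 3} : Set F)
  obtain ⟨s, j, hsj, hs, hj, h1, hx⟩ := subring_card hF R
  by_contra hne
  have hζ0 : ζ ≠ 0 := fun h => by
    rw [h, orderOf_zero] at hζ
    omega
  have hn : ζ ^ (3 * (s - 1)) = 1 := by
    rw [pow_mul]; exact hx _ (Subring.subset_closure rfl) (pow_ne_zero _ hζ0)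
  have hd : q + 1 ∣ 3 * (s - 1) := hζ ▸ orderOf_dvd_of_pow_eq_one hn
  have hq := two_le_q (F := F) (q := q)
  rcases Nat.even_or_odd j with ⟨i, hi⟩ | ⟨i, hi⟩
  · have hq' : q = s ^ i := Nat.pow_left_injective two_ne_zero
      (show q ^ 2 = (s ^ i) ^ 2 by rw [hsj, hi, ← pow_mul, mul_two])
    have hd' : s - 1 ∣ q - 1 := by rw [hq']; simpa using Nat.sub_dvd_pow_sub_pow s 1 i
    have h6 : q + 1 ∣ 6 := by
      have h3 : q + 1 ∣ 3 * (q - 1) := hd.trans (Nat.mul_dvd_mul_left 3 hd')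
      obtain ⟨m, hm⟩ := h3
      have h4 : m < 3 := by
        by_contra hc
        push Not at hc
        have := Nat.mul_le_mul_left (q + 1) hc
        omega
      interval_cases m <;> omega
    have hle := Nat.le_of_dvd (by norm_num) h6
    have hle' : q ≤ 5 := by omega
    interval_cases q <;> omega
  · have hi1 : 1 ≤ i := by
      by_contra hc
      exact hne (h1 (by omega))
    have hj1 : j ≠ 0 := by omega
    obtain ⟨t, ht⟩ : ∃ t, s = t ^ 2 := by
      obtain ⟨p, hchar⟩ := CharP.exists F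
      obtain ⟨⟨e, he⟩, hp, hcard⟩ := FiniteField.card F p
      have hqp : q ^ 2 = p ^ e := by rw [← hF, hcard]; rfl
      obtain ⟨a, -, ha⟩ := (Nat.dvd_prime_pow hp).1 (hqp ▸ dvd_pow_self q two_ne_zero)
      obtain ⟨b, -, hb⟩ := (Nat.dvd_prime_pow hp).1
        (show s ∣ p ^ e by rw [← hqp, hsj]; exact dvd_pow_self s hj1)
      have hab : a * 2 = b * j := by
        refine Nat.pow_right_injective hp.two_le ?_
        show p ^ (a * 2) = p ^ (b * j)
        rw [pow_mul, ← ha, hsj, hb, pow_mul]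
      have hev : Even b := by
        rcases Nat.even_or_odd b with h | h
        · exact h
        · have ho : Odd (b * j) := h.mul ⟨i, hi⟩
          rw [← hab, Nat.odd_iff] at ho
          omega
      obtain ⟨c, rfl⟩ := hev
      exact ⟨p ^ c, by rw [hb, ← pow_mul, mul_two]⟩
    subst ht
    have hq' : q = t ^ j := Nat.pow_left_injective two_ne_zero
      (show q ^ 2 = (t ^ j) ^ 2 by rw [hsj, ← pow_mul, ← pow_mul, mul_comm])
    have ht2 : 2 ≤ t := by
      by_contra hc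
      interval_cases t <;> simp at hs
    have ht4 : 1 < t ^ 2 := Nat.one_lt_pow two_ne_zero (by omega)
    have hle := Nat.le_of_dvd (by omega) hd
    by_cases h32 : t = 2 ∧ j = 3
    · obtain ⟨rfl, rfl⟩ := h32
      exact h8 (by simpa using hq')
    rcases Nat.lt_or_ge t 3 with ht3 | ht3
    · obtain rfl : t = 2 := by omega
      have : 2 ^ 5 ≤ 2 ^ j := Nat.pow_le_pow_right (by norm_num) (by omega)
      simp at hle
      omega
    · have h3 : t ^ 3 ≤ t ^ j := Nat.pow_le_pow_right (by omega) (by omega)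
      have h4 : 3 * t ^ 2 ≤ t ^ 3 := by rw [pow_succ' t 2]; exact Nat.mul_le_mul_right _ ht3
      omega

variable (S : Frame F q)
include S

theorem main_generic (hF : Fintype.card F = q ^ 2) (h2 : q ≠ 2) (h5 : q ≠ 5) (h8 : q ≠ 8) :
    ∃ u g : Cfsg.SU 3 F q,
      (IsNilpotent (((u : Matrix.SpecialLinearGroup (Fin 3) F) : Matrix (Fin 3) (Fin 3) F) - 1) ∧
        (((u : Matrix.SpecialLinearGroup (Fin 3) F) : Matrix (Fin 3) (Fin 3) F) - 1) ^ (3 - 1) ≠ 0) ∧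
      Subgroup.closure ({u, g * u * g⁻¹} : Set (Cfsg.SU 3 F q)) = ⊤ := by
  classical
  have hq := two_le_q (F := F) (q := q)
  obtain ⟨w, hw⟩ := IsCyclic.exists_generator (α := Fˣ)
  have hwo : orderOf w = q ^ 2 - 1 := by
    rw [orderOf_eq_card_of_forall_mem_zpowers hw, Nat.card_eq_fintype_card, Fintype.card_units, hF]
  have hfac : q ^ 2 - 1 = (q + 1) * (q - 1) := by simpa using Nat.sq_sub_sq q 1
  set ζ : F := ((w ^ (q - 1) : Fˣ) : F)
  have hζo : orderOf ζ = q + 1 := by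
    rw [orderOf_units, orderOf_pow_of_dvd (by omega) (by rw [hwo, hfac]; exact Dvd.intro_left _ rfl),
      hwo, hfac, Nat.mul_div_cancel _ (by omega)]
  have hζ0 : ζ ≠ 0 := Units.ne_zero _
  have hσζ : σ ζ * ζ = 1 := by
    rw [qb_apply, ← pow_succ, ← hζo, pow_orderOf_eq_one]
  have hσζ' : σ ζ = ζ⁻¹ := eq_inv_of_mul_eq_one_left hσζ
  have h1ζ : 1 + ζ ≠ 0 := by
    intro h
    have : ζ ^ 2 = 1 := by linear_combination (ζ - 1) * h
    have := Nat.le_of_dvd two_pos (hζo ▸ orderOf_dvd_of_pow_eq_one this)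
    omega
  have h1ζ' : ζ + 1 ≠ 0 := by rwa [add_comm]
  set β : F := -1 / (1 + ζ) with hβdef
  have hσβ : σ β = ζ * β := by
    rw [hβdef, map_div₀, map_neg, map_one, map_add, map_one, hσζ']
    field_simp
    ring
  have hβ : β + σ β + 1 = 0 := by
    rw [hσβ, hβdef]; field_simp; ring
  have hβ0 : β ≠ 0 := by simp [hβdef, h1ζ]
  have hσβ0 : σ β ≠ 0 := fun h => hβ0 ((map_eq_zero _).1 h)
  have hζβ : ζ = σ β / β := by rw [hσβ]; field_simp
  have hs : σ β = -1 - β := by linear_combination hβ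
  have hs0 : -1 - β ≠ 0 := hs ▸ hσβ0
  set c : F := 1 / (β * σ β) with hc
  set k : F := β / σ β with hk
  set d : F := (k - 1 + c) / β with hddef
  have hσc : σ c = c := by rw [hc, map_div₀, map_one, map_mul, qb_qb, mul_comm]
  have hc0 : c ≠ 0 := by simp [hc, hβ0, hσβ0]
  have hσk : σ k = σ β / β := by rw [hk, map_div₀, qb_qb]
  have hd : d + σ d + c * σ c = 0 := by
    rw [hddef, map_div₀, map_add, map_sub, map_one, hσc, hσk, hk, hc, hs]
    field_simp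
    ring
  have hcμ : c * σ (-1 / c) ^ 2 = -(-1 / c) := by
    rw [map_div₀, map_neg, map_one, hσc]; field_simp
  have hu : uE S c d hd ∈ Subgroup.closure ({uE S c d hd, vE S β hβ} : Set (Cfsg.SU 3 F q)) :=
    Subgroup.subset_closure (Or.inl rfl)
  have hv : vE S β hβ ∈ Subgroup.closure ({uE S c d hd, vE S β hβ} : Set (Cfsg.SU 3 F q)) :=
    Subgroup.subset_closure (Or.inr rfl)
  refine main S h2 hF hd hβ hc0 (μ := -1 / c) (div_ne_zero (neg_ne_zero.2 one_ne_zero) hc0) hcμ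
    (k := k) (ρ := 1 - c - σ c - d) (s := -σ c - d) (div_ne_zero hβ0 hσβ0)
    (vE S β hβ * uE S c d hd * vE S β hβ) (Subgroup.mul_mem _ (Subgroup.mul_mem _ hv hu) hv) ?_ ?_ ?_
  · rw [show S.e = vec S 1 0 0 by simp [vec], app_mul, app_mul, vE_vec, uE_vec, vE_vec,
      show k • vec S 1 0 0 = vec S k 0 0 by simp [vec]]
    rw [hσc]
    simp only [hddef, hk, hc, hs]
    refine vec_ext S ?_ ?_ ?_ <;> (field_simp; ring)
  · rw [show S.w = vec S 0 1 0 by simp [vec], app_mul, app_mul, vE_vec, uE_vec, vE_vec]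
    rw [hσc]
    simp only [hddef, hk, hc, hs]
    refine vec_ext S ?_ ?_ ?_ <;> (field_simp; ring)
  · have : σ k * (1 - c - σ c - d) = ζ ^ 3 := by
      rw [hζβ, hσk, hσc, hddef, hk, hc, hs]
      field_simp
      ring
    rw [this]
    exact closure_cube_eq_top hF h2 h5 h8 hζo

theorem main_five (hF : Fintype.card F = q ^ 2) (h5 : q = 5) :
    ∃ u g : Cfsg.SU 3 F q,
      (IsNilpotent (((u : Matrix.SpecialLinearGroup (Fin 3) F) : Matrix (Fin 3) (Fin 3) F) - 1) ∧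
        (((u : Matrix.SpecialLinearGroup (Fin 3) F) : Matrix (Fin 3) (Fin 3) F) - 1) ^ (3 - 1) ≠ 0) ∧
      Subgroup.closure ({u, g * u * g⁻¹} : Set (Cfsg.SU 3 F q)) = ⊤ := by
  subst h5
  haveI : Fact (Nat.Prime 5) := ⟨by norm_num⟩
  obtain ⟨p, hchar⟩ := CharP.exists F
  obtain ⟨e, hp, hcard⟩ := FiniteField.card F p
  have hp5 : p = 5 := by
    have h : p ∣ 5 ^ 2 := by rw [← hF, hcard]; exact dvd_pow_self p (PNat.ne_zero _)
    exact (Nat.prime_dvd_prime_iff_eq hp (by norm_num)).1 (hp.dvd_of_dvd_pow h)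
  haveI : CharP F 5 := hp5 ▸ hchar
  have h50 : (5 : F) = 0 := by exact_mod_cast CharP.cast_eq_zero F 5
  have h20 : (2 : F) ≠ 0 := fun h => by
    have : (1 : F) = 0 := by linear_combination h50 - 2 * h
    exact one_ne_zero this
  obtain ⟨r, hr⟩ : IsSquare (2 : F) := by
    rw [FiniteField.isSquare_iff (by rw [ringChar.eq F 5]; norm_num) h20, hF]
    norm_num
    linear_combination (819 : F) * h50
  have hr0 : r ≠ 0 := by rintro rfl; simp at hr; exact h20 hr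
  have hσr : (qb (F := F) 5) r = -r := by
    rw [qb_apply]
    linear_combination r * h50 - (r ^ 3 + 2 * r) * hr
  have hσ1 : (qb (F := F) 5) (1 : F) = 1 := map_one _
  have hσ2 : (qb (F := F) 5) (2 : F) = 2 := map_ofNat _ 2
  have hd : (1 + 2 * r) + (qb (F := F) 5) (1 + 2 * r) + r * (qb (F := F) 5) r = 0 := by
    rw [map_add, map_mul, hσ1, hσ2, hσr]; linear_combination hr
  have hβ : (2 + r) + (qb (F := F) 5) (2 + r) + 1 = 0 := by
    rw [map_add, hσ2, hσr]; linear_combination h50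
  have hcμ : r * (qb (F := F) 5) (2 * r) ^ 2 = -(2 * r) := by
    rw [map_mul, hσ2, hσr]; linear_combination 2 * r * h50 - 4 * r * hr
  have hu : uE S r (1 + 2 * r) hd ∈ Subgroup.closure ({uE S r (1 + 2 * r) hd, vE S (2 + r) hβ} : Set (Cfsg.SU 3 F 5)) :=
    Subgroup.subset_closure (Or.inl rfl)
  have hv : vE S (2 + r) hβ ∈ Subgroup.closure ({uE S r (1 + 2 * r) hd, vE S (2 + r) hβ} : Set (Cfsg.SU 3 F 5)) :=
    Subgroup.subset_closure (Or.inr rfl)
  refine main S (by norm_num) hF hd hβ hr0 (μ := 2 * r) (mul_ne_zero h20 hr0) hcμ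
    (k := 1 + 2 * r) (ρ := 3 + 2 * r) (s := 2) ?_
    (vE S (2 + r) hβ * uE S r (1 + 2 * r) hd * vE S (2 + r) hβ ^ 3)
    (Subgroup.mul_mem _ (Subgroup.mul_mem _ hv hu) (Subgroup.pow_mem _ hv 3)) ?_ ?_ ?_
  · intro h
    have : (1 : F) = 0 := by
      grind
    exact one_ne_zero this
  · rw [show S.e = vec S 1 0 0 by simp [vec], app_mul, app_mul, pow_succ, pow_two, app_mul, app_mul, vE_vec,
      vE_vec, vE_vec, uE_vec, vE_vec, hσr, show (1 + 2 * r) • vec S 1 0 0 = vec S (1 + 2 * r) 0 0 by simp [vec]]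
    refine vec_ext S ?_ ?_ ?_ <;> grind
  · rw [show S.w = vec S 0 1 0 by simp [vec], app_mul, app_mul, pow_succ, pow_two, app_mul, app_mul, vE_vec,
      vE_vec, vE_vec, uE_vec, vE_vec, hσr]
    refine vec_ext S ?_ ?_ ?_ <;> grind
  · have : (qb (F := F) 5) (1 + 2 * r) * (3 + 2 * r) = r := by
      rw [map_add, map_mul, hσ1, hσ2, hσr]; grind
    rw [this]
    obtain ⟨s, j, hsj, hs, hj, h1, hx⟩ := subring_card hF (Subring.closure ({r} : Set F))
    by_contra hne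
    have hrs := hx r (Subring.subset_closure rfl) hr0
    have hs5 : s = 5 := by
      have h : s ∣ 5 ^ 2 := hsj ▸ dvd_pow_self s (by omega)
      obtain ⟨i, hi, rfl⟩ := (Nat.dvd_prime_pow (by norm_num : Nat.Prime 5)).1 h
      interval_cases i
      · simp at hs
      · rfl
      · refine absurd (h1 ?_) hne
        rw [← pow_mul] at hsj
        have := Nat.pow_right_injective (by norm_num : 2 ≤ 5) hsj
        omega
    subst hs5
    norm_num at hrs
    have : (1 : F) = 4 := by linear_combination -hrs - (r ^ 2 + 2) * hr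
    have h3 : (3 : F) = 0 := by linear_combination -this
    exact h20 (by linear_combination 4 * h3 - 2 * h50)

omit S in
theorem exists_root (hF : Fintype.card F = 8 ^ 2) (h20 : (2 : F) = 0) : ∃ a : F, a ^ 6 + a + 1 = 0 := by
  classical
  haveI : CharP F 2 := CharTwo.of_one_ne_zero_of_two_eq_zero one_ne_zero h20
  by_contra hne
  push Not at hne
  set P : F[X] := X ^ 6 + X + 1
  have hdvd : P ∣ (X : F[X]) ^ Fintype.card F - X := by
    rw [hF]
    have h2 : (2 : F[X]) = 0 := CharTwo.two_eq_zero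
    have hpow : ∀ {n : ℕ} {R S' : F[X]}, P ∣ X ^ n - R → P ∣ R ^ 2 - S' → P ∣ X ^ (n * 2) - S' := by
      intro n R S' h h'
      have e : X ^ (n * 2) - S' = (X ^ n - R) * (X ^ n + R) + (R ^ 2 - S') := by ring
      rw [e]
      exact dvd_add (h.mul_right _) h'
    have h3 : P ∣ (X : F[X]) ^ 8 - (X ^ 3 + X ^ 2) := ⟨X ^ 2, by linear_combination (-(X : F[X]) ^ 3 - X ^ 2) * h2⟩
    have h4 : P ∣ ((X : F[X]) ^ 3 + X ^ 2) ^ 2 - (X ^ 4 + X + 1) := ⟨1, by linear_combination ((X : F[X]) ^ 5 - X - 1) * h2⟩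
    have h5 : P ∣ ((X : F[X]) ^ 4 + X + 1) ^ 2 - (X ^ 3 + 1) := ⟨X ^ 2, by
      linear_combination ((X : F[X]) ^ 5 + X ^ 4 + X - X ^ 3) * h2⟩
    have h6 : P ∣ ((X : F[X]) ^ 3 + 1) ^ 2 - X := ⟨1, by linear_combination ((X : F[X]) ^ 3 - X) * h2⟩
    have h16 := hpow (n := 8) h3 h4
    have h32 := hpow (n := 16) h16 h5
    exact hpow (n := 32) h32 h6
  have hP : P.natDegree = 6 := by
    show (X ^ 6 + X + 1 : F[X]).natDegree = 6
    compute_degree!
  have hsp : Polynomial.Splits ((X : F[X]) ^ Fintype.card F - X) := by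
    rw [splits_iff_card_roots, FiniteField.roots_X_pow_card_sub_X,
      FiniteField.X_pow_card_sub_X_natDegree_eq F Fintype.one_lt_card]
    rfl
  have hPs : Polynomial.Splits P := hsp.of_dvd (FiniteField.X_pow_card_sub_X_ne_zero F Fintype.one_lt_card) hdvd
  obtain ⟨x, hx⟩ := hPs.exists_eval_eq_zero (fun h => by
    have := natDegree_eq_zero_iff_degree_le_zero.2 h.le; omega)
  simp [P] at hx
  exact hne x hx

theorem main_eight (hF : Fintype.card F = q ^ 2) (h8 : q = 8) :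
    ∃ u g : Cfsg.SU 3 F q,
      (IsNilpotent (((u : Matrix.SpecialLinearGroup (Fin 3) F) : Matrix (Fin 3) (Fin 3) F) - 1) ∧
        (((u : Matrix.SpecialLinearGroup (Fin 3) F) : Matrix (Fin 3) (Fin 3) F) - 1) ^ (3 - 1) ≠ 0) ∧
      Subgroup.closure ({u, g * u * g⁻¹} : Set (Cfsg.SU 3 F q)) = ⊤ := by
  subst h8
  obtain ⟨p, hchar⟩ := CharP.exists F
  obtain ⟨e, hp, hcard⟩ := FiniteField.card F p
  have hp2 : p = 2 := by
    have h : p ∣ 2 ^ 6 := by
      rw [show 2 ^ 6 = 8 ^ 2 by norm_num, ← hF, hcard]; exact dvd_pow_self p (PNat.ne_zero _)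
    exact (Nat.prime_dvd_prime_iff_eq hp Nat.prime_two).1 (hp.dvd_of_dvd_pow h)
  haveI : CharP F 2 := hp2 ▸ hchar
  have h20 : (2 : F) = 0 := by exact_mod_cast CharP.cast_eq_zero F 2
  obtain ⟨a, ha⟩ := exists_root hF h20
  have ha0 : a ≠ 0 := fun h => by simp [h] at ha
  have hσa : (qb (F := F) 8) a = a ^ 3 + a ^ 2 := by
    rw [qb_apply]; linear_combination a ^ 2 * ha - (a ^ 3 + a ^ 2) * h20
  have hd : (a ^ 3 + 1) + (qb (F := F) 8) (a ^ 3 + 1) + (a ^ 4 + a) * (qb (F := F) 8) (a ^ 4 + a) = 0 := by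
    rw [map_add, map_pow, map_one, map_add, map_pow, hσa]
    linear_combination (a ^ 10 + 4 * a ^ 9 + 6 * a ^ 8 + 5 * a ^ 7 + 5 * a ^ 6 + 5 * a ^ 5 - a ^ 4 - 8 * a ^ 3 - 8 * a ^ 2 - 6 * a - 8 : F) * ha + (-2 * a ^ 5 + 5 * a ^ 4 + 9 * a ^ 3 + 7 * a ^ 2 + 7 * a + 5 : F) * h20
  have hβ : (a ^ 5 + a) + (qb (F := F) 8) (a ^ 5 + a) + 1 = 0 := by
    rw [map_add, map_pow, hσa]
    linear_combination (a ^ 9 + 5 * a ^ 8 + 10 * a ^ 7 + 10 * a ^ 6 + 5 * a ^ 5 - 6 * a ^ 3 - 15 * a ^ 2 - 20 * a - 15 : F) * ha + (-2 * a ^ 5 + 3 * a ^ 4 + 11 * a ^ 3 + 18 * a ^ 2 + 18 * a + 8 : F) * h20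
  have hcμ : (a ^ 4 + a) * (qb (F := F) 8) (a ^ 2) ^ 2 = -(a ^ 2) := by
    rw [map_pow, hσa]
    linear_combination (a ^ 10 + 4 * a ^ 9 + 6 * a ^ 8 + 5 * a ^ 7 + 5 * a ^ 6 + 5 * a ^ 5 - a ^ 4 - 9 * a ^ 3 - 11 * a ^ 2 - 10 * a - 10 : F) * ha + (-2 * a ^ 5 + 5 * a ^ 4 + 10 * a ^ 3 + 11 * a ^ 2 + 10 * a + 5 : F) * h20
  have hσc : (qb (F := F) 8) (a ^ 4 + a) = a ^ 2 + 1 := by
    rw [map_add, map_pow, hσa]
    linear_combination (a ^ 6 + 4 * a ^ 5 + 6 * a ^ 4 + 4 * a ^ 3 + a ^ 2 - a - 5 : F) * ha + (-5 * a ^ 5 - 5 * a ^ 4 - 2 * a ^ 3 + 3 * a + 2 : F) * h20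
  have hc0 : a ^ 4 + a ≠ 0 := fun h => by
    have : a * (a ^ 3 + 1) = 0 := by linear_combination h
    have h3 := (mul_eq_zero.1 this).resolve_left ha0
    exact one_ne_zero (α := F) (by grind)
  set G := Subgroup.closure ({uE S (a ^ 4 + a) (a ^ 3 + 1) hd, vE S (a ^ 5 + a) hβ} : Set (Cfsg.SU 3 F 8))
  have hu : uE S (a ^ 4 + a) (a ^ 3 + 1) hd ∈ G := Subgroup.subset_closure (Or.inl rfl)
  have hv : vE S (a ^ 5 + a) hβ ∈ G := Subgroup.subset_closure (Or.inr rfl)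
  have hp2' : ∀ g : Cfsg.SU 3 F 8, g ^ 2 = g * g := fun g => pow_two g
  have hp3' : ∀ g : Cfsg.SU 3 F 8, g ^ 3 = g * g * g := fun g => by rw [pow_succ, pow_two]
  refine main S (by norm_num) hF hd hβ hc0 (μ := a ^ 2) (pow_ne_zero _ ha0) hcμ
    (k := a) (ρ := a ^ 2 + a) (s := 0) ha0
    (vE S (a ^ 5 + a) hβ * uE S (a ^ 4 + a) (a ^ 3 + 1) hd ^ 2 * vE S (a ^ 5 + a) hβ *
      uE S (a ^ 4 + a) (a ^ 3 + 1) hd ^ 3 * vE S (a ^ 5 + a) hβ)
    (G.mul_mem (G.mul_mem (G.mul_mem (G.mul_mem hv (G.pow_mem hu 2)) hv) (G.pow_mem hu 3)) hv) ?_ ?_ ?_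
  · rw [show S.e = vec S 1 0 0 by simp [vec], show a • vec S 1 0 0 = vec S a 0 0 by simp [vec]]
    have te0 : app (vE S (a ^ 5 + a) hβ) (vec S (1 : F) (0 : F) (0 : F)) = vec S (1 : F) (1 : F) (a ^ 5 + a : F) := by
      rw [vE_vec]
      refine vec_ext S ?_ ?_ ?_
      · linear_combination (0 : F) * ha + (0 : F) * h20
      · linear_combination (0 : F) * ha + (0 : F) * h20
      · linear_combination (0 : F) * ha + (0 : F) * h20
    have te1 : app (uE S (a ^ 4 + a) (a ^ 3 + 1) hd) (vec S (1 : F) (1 : F) (a ^ 5 + a : F)) = vec S (a ^ 5 + a ^ 4 + a ^ 3 + a : F) (a ^ 5 + a ^ 4 + a ^ 3 + a ^ 2 + a : F) (a ^ 5 + a : F) := by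
      rw [uE_vec, hσc]
      refine vec_ext S ?_ ?_ ?_
      · linear_combination (a ^ 2 : F) * ha + (-(a ^ 3) - a ^ 2 : F) * h20
      · linear_combination (a ^ 3 + 1 : F) * ha + (-(a ^ 4) - a ^ 3 - a : F) * h20
      · linear_combination (0 : F) * ha + (0 : F) * h20
    have te2 : app (uE S (a ^ 4 + a) (a ^ 3 + 1) hd) (vec S (a ^ 5 + a ^ 4 + a ^ 3 + a : F) (a ^ 5 + a ^ 4 + a ^ 3 + a ^ 2 + a : F) (a ^ 5 + a : F)) = vec S (a ^ 2 + a + 1 : F) (1 : F) (a ^ 5 + a : F) := by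
      rw [uE_vec, hσc]
      refine vec_ext S ?_ ?_ ?_
      · linear_combination (a ^ 2 - a - 1 : F) * ha + (-(a ^ 3) - a ^ 2 + a : F) * h20
      · linear_combination (a ^ 3 + 1 : F) * ha + (a ^ 5 + a ^ 2 - 1 : F) * h20
      · linear_combination (0 : F) * ha + (0 : F) * h20
    have te3 : app (uE S (a ^ 4 + a) (a ^ 3 + 1) hd) (vec S (a ^ 2 + a + 1 : F) (1 : F) (a ^ 5 + a : F)) = vec S (a ^ 5 + a ^ 4 + a ^ 3 + a ^ 2 : F) (a ^ 5 + a ^ 4 + a ^ 3 + a ^ 2 + a : F) (a ^ 5 + a : F) := by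
      rw [uE_vec, hσc]
      refine vec_ext S ?_ ?_ ?_
      · linear_combination (a ^ 2 : F) * ha + (-(a ^ 3) - a ^ 2 + a : F) * h20
      · linear_combination (a ^ 3 + 1 : F) * ha + (-(a ^ 4) - a ^ 3 - a : F) * h20
      · linear_combination (0 : F) * ha + (0 : F) * h20
    have te4 : app (vE S (a ^ 5 + a) hβ) (vec S (a ^ 5 + a ^ 4 + a ^ 3 + a ^ 2 : F) (a ^ 5 + a ^ 4 + a ^ 3 + a ^ 2 + a : F) (a ^ 5 + a : F)) = vec S (a ^ 5 + a ^ 4 + a ^ 3 + a ^ 2 : F) (a : F) (a ^ 2 + 1 : F) := by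
      rw [vE_vec]
      refine vec_ext S ?_ ?_ ?_
      · linear_combination (0 : F) * ha + (0 : F) * h20
      · linear_combination (0 : F) * ha + (a ^ 5 + a ^ 4 + a ^ 3 + a ^ 2 : F) * h20
      · linear_combination (a ^ 4 + a ^ 3 + a ^ 2 + a + 1 : F) * ha + (-(a ^ 4) - a ^ 3 - 2 * a ^ 2 - a - 1 : F) * h20
    have te5 : app (uE S (a ^ 4 + a) (a ^ 3 + 1) hd) (vec S (a ^ 5 + a ^ 4 + a ^ 3 + a ^ 2 : F) (a : F) (a ^ 2 + 1 : F)) = vec S (a ^ 4 + a ^ 3 + a + 1 : F) (a ^ 4 + a ^ 3 + a + 1 : F) (a ^ 2 + 1 : F) := by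
      rw [uE_vec, hσc]
      refine vec_ext S ?_ ?_ ?_
      · linear_combination (0 : F) * ha + (a ^ 5 + a ^ 2 - a : F) * h20
      · linear_combination (1 : F) * ha + (-1 : F) * h20
      · linear_combination (0 : F) * ha + (0 : F) * h20
    have te6 : app (uE S (a ^ 4 + a) (a ^ 3 + 1) hd) (vec S (a ^ 4 + a ^ 3 + a + 1 : F) (a ^ 4 + a ^ 3 + a + 1 : F) (a ^ 2 + 1 : F)) = vec S (a : F) (a : F) (a ^ 2 + 1 : F) := by
      rw [uE_vec, hσc]
      refine vec_ext S ?_ ?_ ?_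
      · linear_combination (-1 : F) * ha + (1 : F) * h20
      · linear_combination (1 : F) * ha + (a ^ 4 + a ^ 3 : F) * h20
      · linear_combination (0 : F) * ha + (0 : F) * h20
    have te7 : app (vE S (a ^ 5 + a) hβ) (vec S (a : F) (a : F) (a ^ 2 + 1 : F)) = vec S (a : F) (0 : F) (0 : F) := by
      rw [vE_vec]
      refine vec_ext S ?_ ?_ ?_
      · linear_combination (0 : F) * ha + (0 : F) * h20
      · linear_combination (0 : F) * ha + (a : F) * h20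
      · linear_combination (1 : F) * ha + (a ^ 2 - a : F) * h20
    simp only [hp2', hp3', app_mul]
    rw [te0, te1, te2, te3, te4, te5, te6, te7]
  · rw [show S.w = vec S 0 1 0 by simp [vec]]
    have tw0 : app (vE S (a ^ 5 + a) hβ) (vec S (0 : F) (1 : F) (0 : F)) = vec S (0 : F) (1 : F) (1 : F) := by
      rw [vE_vec]
      refine vec_ext S ?_ ?_ ?_
      · linear_combination (0 : F) * ha + (0 : F) * h20
      · linear_combination (0 : F) * ha + (0 : F) * h20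
      · linear_combination (0 : F) * ha + (-1 : F) * h20
    have tw1 : app (uE S (a ^ 4 + a) (a ^ 3 + 1) hd) (vec S (0 : F) (1 : F) (1 : F)) = vec S (a ^ 3 + a ^ 2 : F) (a ^ 4 + a + 1 : F) (1 : F) := by
      rw [uE_vec, hσc]
      refine vec_ext S ?_ ?_ ?_
      · linear_combination (0 : F) * ha + (-(a ^ 2) : F) * h20
      · linear_combination (0 : F) * ha + (0 : F) * h20
      · linear_combination (0 : F) * ha + (0 : F) * h20
    have tw2 : app (uE S (a ^ 4 + a) (a ^ 3 + 1) hd) (vec S (a ^ 3 + a ^ 2 : F) (a ^ 4 + a + 1 : F) (1 : F)) = vec S (a ^ 4 + a ^ 3 + 1 : F) (1 : F) (1 : F) := by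
      rw [uE_vec, hσc]
      refine vec_ext S ?_ ?_ ?_
      · linear_combination (-1 : F) * ha + (-(a ^ 4) : F) * h20
      · linear_combination (0 : F) * ha + (a ^ 4 + a : F) * h20
      · linear_combination (0 : F) * ha + (0 : F) * h20
    have tw3 : app (uE S (a ^ 4 + a) (a ^ 3 + 1) hd) (vec S (a ^ 4 + a ^ 3 + 1 : F) (1 : F) (1 : F)) = vec S (a ^ 4 + a ^ 2 + 1 : F) (a ^ 4 + a + 1 : F) (1 : F) := by
      rw [uE_vec, hσc]
      refine vec_ext S ?_ ?_ ?_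
      · linear_combination (0 : F) * ha + (a ^ 3 - a ^ 2 : F) * h20
      · linear_combination (0 : F) * ha + (0 : F) * h20
      · linear_combination (0 : F) * ha + (0 : F) * h20
    have tw4 : app (vE S (a ^ 5 + a) hβ) (vec S (a ^ 4 + a ^ 2 + 1 : F) (a ^ 4 + a + 1 : F) (1 : F)) = vec S (a ^ 4 + a ^ 2 + 1 : F) (a ^ 2 + a : F) (a ^ 2 + a : F) := by
      rw [vE_vec]
      refine vec_ext S ?_ ?_ ?_
      · linear_combination (0 : F) * ha + (0 : F) * h20
      · linear_combination (0 : F) * ha + (a ^ 4 + 1 : F) * h20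
      · linear_combination (a ^ 3 + a : F) * ha + (a ^ 5 - a ^ 4 - a ^ 2 - a : F) * h20
    have tw5 : app (uE S (a ^ 4 + a) (a ^ 3 + 1) hd) (vec S (a ^ 4 + a ^ 2 + 1 : F) (a ^ 2 + a : F) (a ^ 2 + a : F)) = vec S (a ^ 5 + a ^ 4 + a ^ 3 + a ^ 2 + 1 : F) (a ^ 5 + a ^ 3 + 1 : F) (a ^ 2 + a : F) := by
      rw [uE_vec, hσc]
      refine vec_ext S ?_ ?_ ?_
      · linear_combination (0 : F) * ha + (-(a ^ 3) : F) * h20
      · linear_combination (1 : F) * ha + (a ^ 2 - 1 : F) * h20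
      · linear_combination (0 : F) * ha + (0 : F) * h20
    have tw6 : app (uE S (a ^ 4 + a) (a ^ 3 + 1) hd) (vec S (a ^ 5 + a ^ 4 + a ^ 3 + a ^ 2 + 1 : F) (a ^ 5 + a ^ 3 + 1 : F) (a ^ 2 + a : F)) = vec S (0 : F) (a ^ 2 + a : F) (a ^ 2 + a : F) := by
      rw [uE_vec, hσc]
      refine vec_ext S ?_ ?_ ?_
      · linear_combination (-a : F) * ha + (a ^ 4 + a ^ 2 + a : F) * h20
      · linear_combination (1 : F) * ha + (a ^ 5 + a ^ 3 - a : F) * h20
      · linear_combination (0 : F) * ha + (0 : F) * h20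
    have tw7 : app (vE S (a ^ 5 + a) hβ) (vec S (0 : F) (a ^ 2 + a : F) (a ^ 2 + a : F)) = vec S (0 : F) (a ^ 2 + a : F) (0 : F) := by
      rw [vE_vec]
      refine vec_ext S ?_ ?_ ?_
      · linear_combination (0 : F) * ha + (0 : F) * h20
      · linear_combination (0 : F) * ha + (0 : F) * h20
      · linear_combination (0 : F) * ha + (0 : F) * h20
    simp only [hp2', hp3', app_mul]
    rw [tw0, tw1, tw2, tw3, tw4, tw5, tw6, tw7]
  · have : (qb (F := F) 8) a * (a ^ 2 + a) = a ^ 5 + a ^ 3 := by rw [hσa]; grind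
    rw [this]
    obtain ⟨s, j, hsj, hs, hj, h1, hx⟩ := subring_card hF (Subring.closure ({a ^ 5 + a ^ 3} : Set F))
    by_contra hne
    set l := a ^ 5 + a ^ 3 with hl
    have hl0 : l ≠ 0 := fun h => one_ne_zero (α := F) (by
      rw [hl] at h
      linear_combination (a ^ 3 + a ^ 2 + 1 : F) * h + (-(a ^ 2) - a - 1 : F) * ha + (-(a ^ 5) + a ^ 2 + a + 1 : F) * h20)
    have hrs := hx l (Subring.subset_closure rfl) hl0
    have h : s ∣ 2 ^ 6 := by
      rw [show 2 ^ 6 = 8 ^ 2 by norm_num, hsj]; exact dvd_pow_self s (by omega)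
    obtain ⟨i, hi, rfl⟩ := (Nat.dvd_prime_pow Nat.prime_two).1 h
    have hij : i * j = 6 := by
      rw [← pow_mul, show 8 ^ 2 = 2 ^ 6 by norm_num] at hsj
      exact (Nat.pow_right_injective le_rfl hsj).symm
    have hj1 : j ≠ 1 := fun h => hne (h1 h)
    have h6 : i = 1 ∨ i = 2 ∨ i = 3 := by
      have : j ≤ 6 := Nat.le_of_dvd (by norm_num) (Dvd.intro_left i hij)
      interval_cases j <;> omega
    have h1' : l ≠ 1 := fun h => one_ne_zero (α := F) (by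
      rw [hl] at h
      linear_combination (a ^ 5 + a ^ 3 + a ^ 2 + a + 1 : F) * h + (-(a ^ 4) - 2 * a ^ 2 - a - 2 : F) * ha + (a ^ 3 + 2 * a ^ 2 + 2 * a + 2 : F) * h20)
    have h3' : l ^ 3 ≠ 1 := fun h => one_ne_zero (α := F) (by
      rw [hl] at h
      linear_combination (a ^ 4 + a ^ 2 + a + 1 : F) * h + (-(a ^ 13) - 4 * a ^ 11 - a ^ 10 - 7 * a ^ 9 - 2 * a ^ 8 - 6 * a ^ 7 + a ^ 6 + a ^ 5 + 7 * a ^ 4 + 8 * a ^ 3 + 8 * a ^ 2 + 5 * a - 2 : F) * ha + (-4 * a ^ 5 - 7 * a ^ 4 - 8 * a ^ 3 - 6 * a ^ 2 - a + 2 : F) * h20)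
    have h7' : l ^ 7 ≠ 1 := fun h => one_ne_zero (α := F) (by
      rw [hl] at h
      linear_combination (a ^ 5 + a ^ 4 + a ^ 3 + a : F) * h + (-(a ^ 34) - a ^ 33 - 8 * a ^ 32 - 7 * a ^ 31 - 29 * a ^ 30 - 20 * a ^ 29 - 61 * a ^ 28 - 26 * a ^ 27 - 76 * a ^ 26 + a ^ 25 - 42 * a ^ 24 + 60 * a ^ 23 + 24 * a ^ 22 + 95 * a ^ 21 + 46 * a ^ 20 + 40 * a ^ 19 - 26 * a ^ 18 - 84 * a ^ 17 - 120 * a ^ 16 - 141 * a ^ 15 - 86 * a ^ 14 - 14 * a ^ 13 + 110 * a ^ 12 + 204 * a ^ 11 + 261 * a ^ 10 + 227 * a ^ 9 + 100 * a ^ 8 - 96 * a ^ 7 - 314 * a ^ 6 - 465 * a ^ 5 - 488 * a ^ 4 - 327 * a ^ 3 - 4 * a ^ 2 + 410 * a + 779 : F) * ha + (477 * a ^ 5 + 408 * a ^ 4 + 166 * a ^ 3 - 203 * a ^ 2 - 594 * a - 389 : F) * h20)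
    rcases h6 with rfl | rfl | rfl <;> norm_num at hrs
    · exact h1' hrs
    · exact h3' hrs
    · exact h7' hrs

end Cfsg.Agent.SUThreeGen
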